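import Cfsg.Agent.H95.LSx.Sub
import Cfsg.Agent.H481.TBound
import Cfsg.Agent.H163.PG.PslAut
import Cfsg.Agent.H277.ClsPsu
import Cfsg.Agent.H454.FinePsp
import Cfsg.Agent.S0293
import Cfsg.Agent.S0813
import Cfsg.Agent.S0814
import Cfsg.Agent.S0815
import Cfsg.Agent.S0817
import Cfsg.Agent.S1055
import Cfsg.Agent.S1059
import Cfsg.Agent.S1162
import Cfsg.Agent.S1163
import Cfsg.Agent.S2121
import Cfsg.Agent.S2126
import Cfsg.Agent.Prune
set_option linter.all false
prune_inst 0x7f00000000000000000000000000000000000000000000000000000000000000000000000000000000000000000000000000000000000000000000000000000000000000000000000000000000000000003fffffffffffffffffffffffffffbeffbdffffffff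
open scoped Cfsg.Agent.FastGrp

/-!
# The orders of the automorphism groups of `PSL_m(q)`, `PSU_m(q)`, `PSp_2m(q)`, `PΩ⁺_2m(q)`, `G₂(3)`, `G₂(4)`, `Sz(8)`

for the predicates `IsL`, `IsU`, … of `H912.Bd`.
-/

set_option autoImplicit false

universe u v

namespace Cfsg.Agent.H93.UG

open Cfsg Cfsg.Agent.H912.Bd

variable {T : Type v} [Group T]

theorem mulaut_congr {S : Type*} {R : Type*} [Group S] [Group R] (e : S ≃* R) :
    Nat.card (MulAut S) = Nat.card (MulAut R) := Nat.card_congr (MulAut.congr e).toEquiv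

/-- `|Aut PSL_m(q)|` -/
theorem aut_l {m q p f : ℕ} (hp : p.Prime) (hf : 1 ≤ f) (hq : q = p ^ f) (hm : 2 ≤ m) (h2 : m = 2 → 4 ≤ q)
    (h : IsL m q T) : Nat.card (MulAut T) =
      (if m = 2 then 1 else 2) * f * (q ^ (m * (m - 1) / 2) * ∏ i ∈ Finset.range (m - 1), (q ^ (i + 2) - 1)) := by
  obtain ⟨K, iF, iT, hK, ⟨e⟩⟩ := h
  have := Fact.mk hp
  rw [mulaut_congr e, S0813.result p f hf (hK.trans hq) m hm (fun h => hq ▸ h2 h), H163.PG.card_pgl hm,
    H163.PG.card_psl hm, hK]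

/-- `|Aut PSU_m(q)|` -/
theorem aut_u {m q p f : ℕ} (hp : p.Prime) (hf : 1 ≤ f) (hq : q = p ^ f) (hm : 3 ≤ m) (h2 : ¬ (m = 3 ∧ q = 2))
    (h : IsU m q T) : Nat.card (MulAut T) =
      2 * f * (q ^ (m * (m - 1) / 2) * ∏ i ∈ Finset.range (m - 1),
        (if Even i then q ^ (i + 2) - 1 else q ^ (i + 2) + 1)) := by
  obtain ⟨K, iF, iT, hK, ⟨e⟩⟩ := h
  have := Fact.mk hp
  rw [mulaut_congr e, S0815.result p f hf hq hK m hm h2, ← H277.ClsPsu.card_psu hK hm]
  ring

/-- `|Aut PSp_2m(q)|`, `(m, p) ≠ (2, 2)` -/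
theorem aut_s {m q p f : ℕ} (hp : p.Prime) (hf : 1 ≤ f) (hq : q = p ^ f) (hm : 2 ≤ m) (h2 : m = 2 → 3 ≤ q)
    (h22 : ¬ (m = 2 ∧ p = 2)) (h : IsS m q T) : Nat.card (MulAut T) =
      f * (q ^ (m ^ 2) * ∏ i ∈ Finset.range m, (q ^ (2 * (i + 1)) - 1)) := by
  obtain ⟨K, iF, iT, hK, ⟨e⟩⟩ := h
  have := Fact.mk hp
  rw [mulaut_congr e, S0814.result p f hf (hK.trans hq) m hm (fun h => hq ▸ h2 h), if_neg h22,
    ← H454.FinePsp.card_psp hK (by omega), hq]
  ring

/-- `|Aut Ω⁺_8(2)|` -/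
theorem aut_op42 (h : IsOP 4 2 T) : Nat.card (MulAut T) = 1045094400 := by
  obtain ⟨K, iF, iT, hK, ⟨e⟩⟩ := h
  have := Fact.mk Nat.prime_two
  have h1 := S0293.result hK 4 (by norm_num)
  have h2 : Nat.card (Cfsg.POmega K (Cfsg.quadFormPlus 4 K)) = 174182400 := by
    simp only [Finset.prod_range_succ, Finset.prod_range_zero] at h1
    norm_num at h1
    exact h1
  rw [mulaut_congr e, S0817.result 2 1 le_rfl (hK.trans (by norm_num)) 4 le_rfl, h2]
  norm_num

theorem aut_of_out {S : Type*} [Group S] [Finite S] [IsSimpleGroup S] (hna : ¬ IsMulCommutative S) (e : T ≃* S)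
    {a b : ℕ} (ha : Nat.card (Cfsg.Out S) = a) (hb : Nat.card S = b) : Nat.card (MulAut T) = a * b := by
  rw [mulaut_congr e, ← H934.OutB.card_out_mul S hna, ha, hb]

theorem not_comm_of_ne {S : Type*} [Group S] [Finite S] [IsSimpleGroup S] (h : ¬ (Nat.card S).Prime) :
    ¬ IsMulCommutative S := by
  intro hc
  let _ : CommGroup S := { (inferInstance : Group S) with mul_comm := fun a b => hc.is_comm.comm a b }
  exact h (IsSimpleGroup.prime_card)

theorem exists_ne01 {K : Type*} [Field K] [Fintype K] (h : 3 ≤ Fintype.card K) : ∃ a : K, a ≠ 0 ∧ a ≠ 1 := by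
  classical
  by_contra hc
  push Not at hc
  have h1 : (Finset.univ : Finset K) ⊆ {0, 1} := by
    intro a _
    rw [Finset.mem_insert, Finset.mem_singleton]
    by_cases h0 : a = 0
    · exact Or.inl h0
    · exact Or.inr (hc a h0)
  have h2 := Finset.card_le_card h1
  rw [Finset.card_univ] at h2
  have h3 : ({0, 1} : Finset K).card ≤ 2 := Finset.card_le_two
  omega

/-- `|Aut G₂(3)|` -/
theorem aut_g23 (h : H912.Bd.IsG2 3 T) : Nat.card (MulAut T) = 8491392 := by
  obtain ⟨K, iF, iT, hK, ⟨e⟩⟩ := h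
  have := Fact.mk Nat.prime_three
  have : CharP K 3 := charP_of_card_eq_prime_pow (f := 1) (hK.trans (by norm_num))
  have h1 := S2121.result (F := K) 3 1 (hK.trans (by norm_num)) (by norm_num)
  have h2 := S1059.result (F := K) hK
  norm_num at h1 h2
  have : Finite ↥(Cfsg.Lie.chevG2.group K) := Nat.finite_of_card_ne_zero (by rw [h2]; norm_num)
  obtain ⟨hs, hna⟩ := S1055.result (exists_ne01 (K := K) (by rw [hK]))
  have := hs
  rw [aut_of_out hna e h1 h2]

/-- `|Aut G₂(4)|` -/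
theorem aut_g24 (h : H912.Bd.IsG2 4 T) : Nat.card (MulAut T) = 503193600 := by
  obtain ⟨K, iF, iT, hK, ⟨e⟩⟩ := h
  have := Fact.mk Nat.prime_two
  have : CharP K 2 := charP_of_card_eq_prime_pow (f := 2) (hK.trans (by norm_num))
  have h1 := S2121.result (F := K) 2 2 (hK.trans (by norm_num)) (by norm_num)
  have h2 := S1059.result (F := K) hK
  norm_num at h1 h2
  have : Finite ↥(Cfsg.Lie.chevG2.group K) := Nat.finite_of_card_ne_zero (by rw [h2]; norm_num)
  obtain ⟨hs, hna⟩ := S1055.result (exists_ne01 (K := K) (by rw [hK]; norm_num))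
  have := hs
  rw [aut_of_out hna e h1 h2]

/-- `|Aut Sz(8)|` -/
theorem aut_sz8 (h : IsSz8 T) : Nat.card (MulAut T) = 87360 := by
  obtain ⟨K, iF, iT, hK, ⟨e⟩⟩ := h
  have hK' : Fintype.card K = 2 ^ (2 * 1 + 1) := by rw [hK]; norm_num
  have h1 := S2126.result (m := 1) le_rfl hK'
  have h2 := (S1163.result (m := 1) le_rfl hK').1
  have h3 := S1162.result (m := 1) le_rfl hK'
  norm_num at h1 h2 h3
  have : Finite ↥(Cfsg.Lie.Sz K 4) := Nat.finite_of_card_ne_zero (by rw [h2]; norm_num)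
  rw [aut_of_out (not_comm_of_ne (by rw [h2]; norm_num)) e h1 h2]

end Cfsg.Agent.H93.UG

private theorem dce_b266d6b1d1f9 : _root_.True := by
  try have : _root_.True := by simp only [_root_.Cfsg.POmega.congr_simp]
  exact _root_.True.intro
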